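import Groth.Agent.Purity.Two
import Mathlib.RingTheory.Finiteness.Projective
import Mathlib.RingTheory.Localization.Integer

/-!
# Finiteness of modules with a regular pair
-/

set_option autoImplicit false

universe u v w

namespace Groth.Agent.PureFin

open Groth.Agent.Purity

/-- A module with a regular pair, finite over `D(b)` and finite projective over `D(a)`, is finite. -/
theorem finite_of_two_of_projective {A : Type u} [CommRing A] [IsNoetherianRing A] {a b : A} (hA : TwoWith a b A)
    {M : Type v} [AddCommGroup M] [Module A M] (hM : TwoWith a b M) (G : Finset M)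
    (hG : ∀ x : M, ∃ l : ℕ, b ^ l • x ∈ Submodule.span A (G : Set M))
    (Aa : Type u) [CommRing Aa] [Algebra A Aa] [IsLocalization.Away a Aa] {Ma : Type w} [AddCommGroup Ma]
    [Module A Ma] [Module Aa Ma] [IsScalarTower A Aa Ma] [Module.Finite Aa Ma] [Module.Projective Aa Ma]
    (fa : M →ₗ[A] Ma) [IsLocalizedModule (Submonoid.powers a) fa] : Module.Finite A M := by
  classical
  let φ : A →ₗ[A] Aa := Algebra.linearMap A Aa
  have hφ : Function.Injective φ := fun x y hxy => by
    obtain ⟨⟨_, j, rfl⟩, hj⟩ := (IsLocalization.eq_iff_exists (Submonoid.powers a) Aa).1 hxy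
    exact hA.inj_pow_eq j hj
  obtain ⟨N, f, g, -, hg, -⟩ := Module.Finite.exists_comp_eq_id_of_projective Aa Ma
  let F : Fin N → M →ₗ[A] Aa := fun i =>
    ((LinearMap.proj i).comp g).restrictScalars A ∘ₗ fa
  obtain ⟨⟨s, k, hk⟩, hs⟩ := IsLocalization.exist_integer_multiples_of_finset (Submonoid.powers a)
    ((Finset.univ : Finset (Fin N)).biUnion fun i => G.image (F i))
  change a ^ k = s at hk
  have hmem : ∀ (i : Fin N) (x : M), a ^ k • F i x ∈ LinearMap.range φ := by
    intro i x
    obtain ⟨l, hl⟩ := hG x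
    have hspan : ∀ y ∈ Submodule.span A (G : Set M), a ^ k • F i y ∈ LinearMap.range φ := by
      intro y hy
      induction hy using Submodule.span_induction with
      | mem y hy =>
        obtain ⟨z, hz⟩ := hs (F i y) (Finset.mem_biUnion.2 ⟨i, Finset.mem_univ _, Finset.mem_image_of_mem _ hy⟩)
        exact ⟨z, hz.trans (by simp [hk])⟩
      | zero => simp
      | add y y' _ _ hy hy' => rw [map_add, smul_add]; exact add_mem hy hy'
      | smul r y _ hy => rw [map_smul, smul_comm]; exact Submodule.smul_mem _ _ hy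
    obtain ⟨c, hc⟩ := hspan _ hl
    obtain ⟨⟨n, ⟨_, j, rfl⟩⟩, hn⟩ := IsLocalization.surj (Submonoid.powers a) (a ^ k • F i x)
    have h1 : b ^ l * n = a ^ j * c := hφ (by
      show algebraMap A Aa (b ^ l * n) = algebraMap A Aa (a ^ j * c)
      rw [map_mul, map_mul, ← hn, show algebraMap A Aa c = a ^ k • F i (b ^ l • x) from hc, map_smul, smul_comm,
        Algebra.smul_def (b ^ l)]
      ring)
    obtain ⟨z, rfl⟩ := hA.cancel_pow j l n c h1
    refine ⟨z, ?_⟩
    show algebraMap A Aa z = _
    have hu : IsUnit (algebraMap A Aa (a ^ j)) := IsLocalization.map_units Aa (⟨a ^ j, j, rfl⟩ : Submonoid.powers a)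
    exact hu.mul_right_cancel (by rw [hn, ← map_mul, mul_comm, smul_eq_mul])
  let F' : Fin N → M →ₗ[A] A := fun i =>
    (LinearEquiv.ofInjective φ hφ).symm.toLinearMap ∘ₗ LinearMap.codRestrict _ (a ^ k • F i) (hmem i)
  refine Module.Finite.of_injective (LinearMap.pi F') fun x y hxy => hM.eq_of_loc fa (hg (funext fun i => ?_))
  have h := congrArg (fun z => ((LinearEquiv.ofInjective φ hφ) z : Aa)) (congrFun hxy i)
  simp only [LinearMap.pi_apply, F', LinearMap.comp_apply, LinearEquiv.coe_coe, LinearEquiv.apply_symm_apply,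
    LinearMap.codRestrict_apply, LinearMap.smul_apply, Algebra.smul_def] at h
  exact (IsLocalization.map_units Aa (⟨a ^ k, k, rfl⟩ : Submonoid.powers a)).mul_left_cancel h

end Groth.Agent.PureFin
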