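import Groth.Agent.PureFin.Algebra
import Groth.Agent.Purity.Chart
import Groth.Agent.Purity.DepthRestrict
import Mathlib.RingTheory.Flat.EquationalCriterion

/-!
# Sections of a finite étale cover of a big open are finite
-/

set_option autoImplicit false
set_option linter.style.haveILetI false

universe u

open AlgebraicGeometry CategoryTheory TopologicalSpace Limits
open Groth.Agent.Purity

namespace Groth.Agent.PureFin

variable {X Y : Scheme.{u}} {U : X.Opens} {V : X.Opens} (hV : IsAffineOpen V)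

/-- Over an affine chart the sections of a cover of a big open are finite, with a regular pair. -/
theorem finite_chart [IsLocallyNoetherian X] (h : Y ⟶ U.toScheme) [IsFinite h] [Etale h]
    [QuasiCompact (h ≫ U.ι)] [QuasiSeparated (h ≫ U.ι)] {a b : Γ(X, V)} (haI : a ∈ outerIdeal U hV)
    (hbI : b ∈ outerIdeal U hV) (hA : TwoWith a b Γ(X, V)) :
    ((h ≫ U.ι).app V).hom.Finite ∧
      (letI := ((h ≫ U.ι).app V).hom.toAlgebra; TwoWith a b Γ(Y, (h ≫ U.ι) ⁻¹ᵁ V)) := by
  classical
  set g := h ≫ U.ι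
  set W := g ⁻¹ᵁ V
  letI : Algebra Γ(X, V) Γ(Y, W) := (g.app V).hom.toAlgebra
  haveI : IsNoetherianRing Γ(X, V) := IsLocallyNoetherian.component_noetherian ⟨V, hV⟩
  have hW : g.appLE V W le_rfl = g.app V := g.app_eq_appLE.symm
  have hC : TwoWith a b Γ(Y, W) := by
    have := two_sections' g hV hA (W := W) le_rfl
    rw [hW] at this
    exact this
  have haff : ∀ f ∈ outerIdeal U hV, IsAffineOpen (Y.basicOpen (g.app V f)) := fun f hf => by
    rw [show Y.basicOpen (g.app V f) = h ⁻¹ᵁ U.ι ⁻¹ᵁ X.basicOpen f from (Scheme.preimage_basicOpen g f).symm]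
    exact ((hV.basicOpen f).preimage_of_isOpenImmersion U.ι (by
      rw [Scheme.Opens.opensRange_ι]; exact basicOpen_le_of_mem_outerIdeal hV hf)).preimage h
  have hWc : IsCompact (W : Set Y) := g.isCompact_preimage hV.isCompact
  have hWs : IsQuasiSeparated (W : Set Y) := g.isQuasiSeparated_preimage hV.isQuasiSeparated
  have hloc : ∀ f : Γ(X, V), IsLocalization.Away (algebraMap Γ(X, V) Γ(Y, W) f)
      Γ(Y, Y.basicOpen (g.app V f)) := fun f => isLocalization_basicOpen_of_qcqs hWc hWs _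
  have hgen : ∀ f ∈ outerIdeal U hV, ∃ G : Finset Γ(Y, W), ∀ c : Γ(Y, W), ∃ k : ℕ,
      f ^ k • c ∈ Submodule.span Γ(X, V) (G : Set Γ(Y, W)) := by
    intro f hf
    haveI := hV.isLocalization_basicOpen f
    haveI := hloc f
    set D := X.basicOpen f
    have hle : D ≤ U.ι.opensRange := by rw [Scheme.Opens.opensRange_ι]; exact basicOpen_le_of_mem_outerIdeal hV hf
    have hfin : (g.app D).hom.Finite := by
      haveI : IsIso (U.ι.app D) := Scheme.Hom.isIso_app U.ι D hle
      show ((h.app (U.ι ⁻¹ᵁ D)).hom.comp (U.ι.app D).hom).Finite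
      exact (h.finite_app _ ((hV.basicOpen f).preimage_of_isOpenImmersion U.ι hle)).comp
        (RingHom.Finite.of_surjective _ (ConcreteCategory.bijective_of_isIso (U.ι.app D)).2)
    have heq : g ⁻¹ᵁ D = Y.basicOpen (g.app V f) := Scheme.preimage_basicOpen g f
    set O := Y.basicOpen (g.app V f)
    let ψ : Γ(X, D) →+* Γ(Y, O) := (g.appLE D O heq.ge).hom
    have hψ : ψ.Finite := by
      show (g.appLE D O heq.ge).hom.Finite
      rw [show g.appLE D O heq.ge = g.app D ≫ Y.presheaf.map (eqToHom heq.symm).op from rfl, CommRingCat.hom_comp]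
      exact (RingHom.Finite.of_surjective _
        (ConcreteCategory.bijective_of_isIso (Y.presheaf.map (eqToHom heq.symm).op)).2).comp hfin
    letI := ψ.toAlgebra
    haveI : Module.Finite Γ(X, D) Γ(Y, O) := hψ
    obtain ⟨γ, hγ⟩ := Module.Finite.fg_top (R := Γ(X, D)) (M := Γ(Y, O))
    have hsurj : ∀ z : Γ(Y, O), ∃ (k : ℕ) (c : Γ(Y, W)),
        algebraMap Γ(Y, W) Γ(Y, O) (g.app V f) ^ k * z = algebraMap Γ(Y, W) Γ(Y, O) c := fun z => by
      obtain ⟨⟨c, ⟨_, k, rfl⟩⟩, hk⟩ :=
        IsLocalization.surj (Submonoid.powers (algebraMap Γ(X, V) Γ(Y, W) f)) z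
      exact ⟨k, c, by rw [mul_comm, ← map_pow]; exact hk⟩
    choose k c hc using hsurj
    have hcompat : ∀ r : Γ(X, V), ψ (algebraMap Γ(X, V) Γ(X, D) r) = algebraMap Γ(Y, W) Γ(Y, O) (g.app V r) := by
      intro r
      show g.appLE D O heq.ge (X.presheaf.map (homOfLE (X.basicOpen_le f)).op r) =
        Y.presheaf.map (homOfLE (Y.basicOpen_le _)).op (g.app V r)
      rw [show g.app V r = g.appLE V W le_rfl r from (ConcreteCategory.congr_hom hW r).symm, res_appLE]
      exact ConcreteCategory.congr_hom (g.map_appLE heq.ge (homOfLE (X.basicOpen_le f)).op) r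
    refine ⟨γ.image c, fun z => ?_⟩
    set N : Submodule Γ(X, V) Γ(Y, W) := Submodule.span Γ(X, V) ((γ.image c : Finset _) : Set Γ(Y, W))
    have key : ∀ w ∈ Submodule.span Γ(X, D) (γ : Set Γ(Y, O)), ∃ (K : ℕ) (c' : Γ(Y, W)), c' ∈ N ∧
        algebraMap Γ(Y, W) Γ(Y, O) (g.app V f) ^ K * w = algebraMap Γ(Y, W) Γ(Y, O) c' := by
      intro w hw
      induction hw using Submodule.span_induction with
      | mem w hw => exact ⟨k w, c w, Submodule.subset_span (Finset.mem_image_of_mem c hw), hc w⟩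
      | zero => exact ⟨0, 0, zero_mem _, by simp⟩
      | add w w' _ _ hw hw' =>
        obtain ⟨K, c₁, h₁, e₁⟩ := hw
        obtain ⟨K', c₂, h₂, e₂⟩ := hw'
        refine ⟨K + K', f ^ K' • c₁ + f ^ K • c₂, add_mem (N.smul_mem _ h₁) (N.smul_mem _ h₂), ?_⟩
        rw [Algebra.smul_def, Algebra.smul_def, map_add, map_mul, map_mul, map_pow, map_pow, map_pow, map_pow,
          ← e₁, ← e₂, RingHom.algebraMap_toAlgebra (g.app V).hom]
        ring
      | smul r w _ hw =>
        obtain ⟨K, c₁, h₁, e₁⟩ := hw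
        obtain ⟨⟨r₀, ⟨_, m, rfl⟩⟩, hr⟩ := IsLocalization.surj (Submonoid.powers f) r
        refine ⟨K + m, r₀ • c₁, N.smul_mem _ h₁, ?_⟩
        have e := congrArg ψ hr
        simp only [map_mul, map_pow] at e
        rw [hcompat, hcompat] at e
        rw [Algebra.smul_def r₀, map_mul, ← e₁, Algebra.smul_def r, RingHom.algebraMap_toAlgebra (g.app V).hom]
        show _ * (ψ r * w) = _
        rw [← e]
        ring
    obtain ⟨K, c', hc', e⟩ := key (algebraMap Γ(Y, W) Γ(Y, O) z) (hγ ▸ Submodule.mem_top)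
    rw [← map_pow, ← map_mul] at e
    obtain ⟨⟨_, L, rfl⟩, hL⟩ := (IsLocalization.eq_iff_exists (Submonoid.powers (g.app V f)) _).1 e
    refine ⟨L + K, ?_⟩
    have : f ^ (L + K) • z = f ^ L • c' := by
      rw [Algebra.smul_def, Algebra.smul_def, map_pow, map_pow, RingHom.algebraMap_toAlgebra (g.app V).hom, pow_add,
        mul_assoc]
      exact hL
    exact this ▸ N.smul_mem _ hc'
  obtain ⟨Gb, hGb⟩ := hgen b hbI
  refine ⟨?_, hC⟩
  show Module.Finite Γ(X, V) Γ(Y, W)
  haveI := hV.isLocalization_basicOpen a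
  haveI := hloc a
  set D := X.basicOpen a
  set O := Y.basicOpen (g.app V a)
  haveI : IsNoetherianRing Γ(X, D) := IsLocallyNoetherian.component_noetherian ⟨D, hV.basicOpen a⟩
  have hle : D ≤ U.ι.opensRange := by rw [Scheme.Opens.opensRange_ι]; exact basicOpen_le_of_mem_outerIdeal hV haI
  have heq : g ⁻¹ᵁ D = O := Scheme.preimage_basicOpen g a
  letI algDO : Algebra Γ(X, D) Γ(Y, O) := (g.appLE D O heq.ge).hom.toAlgebra
  haveI : Module.Finite Γ(X, D) Γ(Y, O) := by
    have hfin : (g.app D).hom.Finite := by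
      haveI : IsIso (U.ι.app D) := Scheme.Hom.isIso_app U.ι D hle
      show ((h.app (U.ι ⁻¹ᵁ D)).hom.comp (U.ι.app D).hom).Finite
      exact (h.finite_app _ ((hV.basicOpen a).preimage_of_isOpenImmersion U.ι hle)).comp
        (RingHom.Finite.of_surjective _ (ConcreteCategory.bijective_of_isIso (U.ι.app D)).2)
    show (g.appLE D O heq.ge).hom.Finite
    rw [show g.appLE D O heq.ge = g.app D ≫ Y.presheaf.map (eqToHom heq.symm).op from rfl, CommRingCat.hom_comp]
    exact (RingHom.Finite.of_surjective _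
      (ConcreteCategory.bijective_of_isIso (Y.presheaf.map (eqToHom heq.symm).op)).2).comp hfin
  haveI : Algebra.Etale Γ(X, D) Γ(Y, O) := g.etale_appLE (hV.basicOpen a) (haff a haI) heq.ge
  haveI : Module.Flat Γ(X, D) Γ(Y, O) := inferInstance
  haveI : Module.FinitePresentation Γ(X, D) Γ(Y, O) := Module.finitePresentation_of_finite _ _
  haveI : Module.Projective Γ(X, D) Γ(Y, O) := Module.Flat.projective_of_finitePresentation
  letI algVO : Algebra Γ(X, V) Γ(Y, O) := (g.appLE V O (Y.basicOpen_le _)).hom.toAlgebra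
  haveI : IsScalarTower Γ(X, V) Γ(X, D) Γ(Y, O) := .of_algebraMap_eq fun r =>
    (ConcreteCategory.congr_hom (g.map_appLE heq.ge (homOfLE (X.basicOpen_le a)).op) r).symm
  haveI : IsScalarTower Γ(X, V) Γ(Y, W) Γ(Y, O) := .of_algebraMap_eq fun r => by
    show g.appLE V O (Y.basicOpen_le _) r = Y.presheaf.map _ (g.app V r)
    rw [show g.app V r = g.appLE V W le_rfl r from (ConcreteCategory.congr_hom hW r).symm, res_appLE]
  haveI : IsLocalization (Algebra.algebraMapSubmonoid Γ(Y, W) (Submonoid.powers a)) Γ(Y, O) := by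
    rw [show Algebra.algebraMapSubmonoid Γ(Y, W) (Submonoid.powers a) = Submonoid.powers (algebraMap Γ(X, V) Γ(Y, W) a)
      from Submonoid.map_powers _ a]
    exact hloc a
  haveI : IsLocalizedModule (Submonoid.powers a)
      ((IsScalarTower.toAlgHom Γ(X, V) Γ(Y, W) Γ(Y, O)).toLinearMap) :=
    isLocalizedModule_iff_isLocalization.2 inferInstance
  exact finite_of_two_of_projective hA hC Gb hGb Γ(X, D) (IsScalarTower.toAlgHom Γ(X, V) Γ(Y, W) Γ(Y, O)).toLinearMap

end Groth.Agent.PureFin
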