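import Groth.Agent.PureFin.Chart
import Groth.Agent.Purity.Extend
import Groth.Agent.CMFlat.Quotient

/-!
# The finite extension of depth two of a cover of a big open
-/

set_option autoImplicit false
set_option linter.style.haveILetI false

universe u

open AlgebraicGeometry CategoryTheory TopologicalSpace Limits
open Groth.Agent.Purity

namespace Groth.Agent.PureFin

/-- A regular pair in the maximal ideal gives depth at least two. -/
theorem two_le_depth_of_two {T : Type u} [CommRing T] [IsLocalRing T] {a b : T} (h : TwoWith a b T)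
    (ha : a ∈ IsLocalRing.maximalIdeal T) (hb : b ∈ IsLocalRing.maximalIdeal T) : (2 : ℕ∞) ≤ LocCoh.depth T T := by
  refine le_trans (le_of_eq ?_) (CMFlat.le_depth_of_isWeaklyRegular (T := T) (rs := [a, b]) ?_ (by
    intro r hr
    rcases List.mem_cons.1 hr with rfl | hr
    · exact ha
    · rwa [List.mem_singleton.1 hr]))
  · rfl
  · rw [RingTheory.Sequence.isWeaklyRegular_cons_iff, RingTheory.Sequence.isWeaklyRegular_cons_iff]
    refine ⟨fun x y hxy => h.inj_pow_eq 1 (by simpa using hxy), fun x y hxy => ?_,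
      RingTheory.Sequence.IsWeaklyRegular.nil _ _⟩
    obtain ⟨x, rfl⟩ := Submodule.Quotient.mk_surjective _ x
    obtain ⟨y, rfl⟩ := Submodule.Quotient.mk_surjective _ y
    simp only [← Submodule.Quotient.mk_smul, Submodule.Quotient.eq] at hxy ⊢
    obtain ⟨n, -, hn⟩ := hxy
    obtain ⟨z, hz⟩ := h.cancel (x - y) n (by rw [smul_sub]; exact hn.symm)
    exact ⟨z, trivial, hz.symm⟩

variable {X Y : Scheme.{u}} {U : X.Opens}

theorem exists_extension_depth_two [IsLocallyNoetherian X]
    (hU : ∀ x : X, x ∉ U → (2 : ℕ∞) ≤ LocCoh.depth (X.presheaf.stalk x) (X.presheaf.stalk x)) (h : Y ⟶ U.toScheme)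
    [IsFinite h] [Etale h] [QuasiCompact (h ≫ U.ι)] [QuasiSeparated (h ≫ U.ι)] :
    ∃ (Z : Scheme.{u}) (ρ : Z ⟶ X), IsFinite ρ ∧
      (∃ e : Y ≅ pullback ρ U.ι, e.hom ≫ pullback.snd ρ U.ι = h) ∧
      ∀ z : Z, ρ z ∉ U → (2 : ℕ∞) ≤ LocCoh.depth (Z.presheaf.stalk z) (Z.presheaf.stalk z) := by
  classical
  set g := h ≫ U.ι
  have hkey : ∀ (V : X.Opens), IsAffineOpen V → ∃ a b : Γ(X, V), X.basicOpen a ≤ U ∧ X.basicOpen b ≤ U ∧
      (g.fromNormalization.app V).hom.Finite ∧
      (letI := (g.fromNormalization.app V).hom.toAlgebra; TwoWith a b Γ(g.normalization, g.fromNormalization ⁻¹ᵁ V)) := by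
    intro V hV
    obtain ⟨a, b, haI, hbI, hA⟩ := exists_pair_chart_of_depth U hU V hV
    obtain ⟨hfin, hC⟩ := finite_chart hV h haI hbI hA
    letI := (g.app V).hom.toAlgebra
    haveI : Module.Finite Γ(X, V) Γ(Y, g ⁻¹ᵁ V) := hfin
    have htop : integralClosure Γ(X, V) Γ(Y, g ⁻¹ᵁ V) = ⊤ :=
      eq_top_iff.2 fun c _ => Algebra.IsIntegral.isIntegral c
    let e : integralClosure Γ(X, V) Γ(Y, g ⁻¹ᵁ V) ≃ₐ[Γ(X, V)] Γ(Y, g ⁻¹ᵁ V) :=
      (Subalgebra.equivOfEq _ _ htop).trans Subalgebra.topEquiv
    haveI : Module.Finite Γ(X, V) (integralClosure Γ(X, V) Γ(Y, g ⁻¹ᵁ V)) :=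
      Module.Finite.equiv e.symm.toLinearEquiv
    refine ⟨a, b, basicOpen_le_of_mem_outerIdeal hV haI, basicOpen_le_of_mem_outerIdeal hV hbI, ?_, ?_⟩
    · rw [g.fromNormalization_app hV]
      exact (RingHom.finite_respectsIso.cancel_right_isIso _ _).2 (RingHom.finite_algebraMap.2 inferInstance)
    · letI := (g.fromNormalization.app V).hom.toAlgebra
      let E : Γ(g.normalization, g.fromNormalization ⁻¹ᵁ V) ≃ₗ[Γ(X, V)] Γ(Y, g ⁻¹ᵁ V) :=
        { ((g.normalizationObjIso hV).commRingCatIsoToRingEquiv.trans e.toRingEquiv).toAddEquiv with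
          map_smul' := fun r x => by
            show e ((g.normalizationObjIso hV).commRingCatIsoToRingEquiv (r • x)) =
              r • e ((g.normalizationObjIso hV).commRingCatIsoToRingEquiv x)
            rw [Algebra.smul_def, map_mul, map_mul, Algebra.smul_def r (e _), ← e.commutes r]
            congr 1
            show e ((g.normalizationObjIso hV).hom ((g.fromNormalization.app V) r)) = _
            rw [g.fromNormalization_app hV, CommRingCat.comp_apply]
            exact congrArg e ((g.normalizationObjIso hV).commRingCatIsoToRingEquiv.apply_symm_apply _) }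
      exact TwoWith.of_equiv E.symm hC
  refine ⟨g.normalization, g.fromNormalization, ?_, ?_, ?_⟩
  · refine (IsZariskiLocalAtTarget.iff_of_iSup_eq_top (P := @IsFinite)
      (fun V : X.affineOpens => V.1) (iSup_affineOpens_eq_top X)).2 fun V => ?_
    haveI : IsAffine V.1.toScheme := V.2
    obtain ⟨a, b, -, -, hf, -⟩ := hkey V.1 V.2
    exact HasAffineProperty.iff_of_isAffine.2 ⟨V.2.preimage g.fromNormalization,
      appTop_morphismRestrict RingHom.finite_respectsIso _ _ hf⟩
  · have sq : IsPullback (𝟙 Y) h g U.ι := by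
      refine IsPullback.of_isLimit' ⟨by simp [g]⟩ (PullbackCone.IsLimit.mk _ (fun s => s.fst) (fun s => by simp)
        (fun s => ?_) (fun s m h₁ _ => by simpa using h₁))
      rw [← cancel_mono U.ι, Category.assoc]
      exact s.condition
    let e₀ : Y ≅ pullback g U.ι := sq.isoPullback
    have he : e₀.hom ≫ pullback.snd g U.ι = h := sq.isoPullback_hom_snd
    haveI : IsFinite (pullback.snd g U.ι) := by
      rw [← MorphismProperty.cancel_left_of_respectsIso @IsFinite e₀.hom, he]; infer_instance
    haveI : Smooth U.ι := inferInstance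
    refine ⟨e₀ ≪≫ asIso (pullback.snd g U.ι).toNormalization ≪≫ asIso (g.normalizationPullback U.ι), ?_⟩
    simp only [Iso.trans_hom, asIso_hom, Category.assoc, Scheme.Hom.normalizationPullback_snd,
      Scheme.Hom.toNormalization_fromNormalization, he]
  · intro z hz
    obtain ⟨_, ⟨V, hV, rfl⟩, hzV, -⟩ :=
      X.isBasis_affineOpens.exists_subset_of_mem_open (Set.mem_univ (g.fromNormalization z)) isOpen_univ
    have hV : IsAffineOpen V := hV
    obtain ⟨a, b, hda, hdb, -, hC⟩ := hkey V hV
    set O := g.fromNormalization ⁻¹ᵁ V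
    have hO : IsAffineOpen O := hV.preimage g.fromNormalization
    letI := (g.fromNormalization.app V).hom.toAlgebra
    have hzO : z ∈ O := hzV
    letI := g.normalization.presheaf.algebra_section_stalk (⟨z, hzO⟩ : O)
    haveI := hO.isLocalization_stalk ⟨z, hzO⟩
    haveI : Module.Flat Γ(g.normalization, O) (g.normalization.presheaf.stalk z) :=
      IsLocalization.flat _ (hO.primeIdealOf ⟨z, hzO⟩).asIdeal.primeCompl
    have h2 := (two_algebraMap_iff (S := g.normalization.presheaf.stalk z) (M := g.normalization.presheaf.stalk z)).2 (two_of_flat ((two_algebraMap_iff (S := Γ(g.normalization, O)) (M := Γ(g.normalization, O))).2 hC) (g.normalization.presheaf.stalk z))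
    have hmem : ∀ c : Γ(X, V), X.basicOpen c ≤ U →
        algebraMap Γ(g.normalization, O) (g.normalization.presheaf.stalk z) (algebraMap Γ(X, V) _ c) ∈
          IsLocalRing.maximalIdeal (g.normalization.presheaf.stalk z) := fun c hc hu => hz (hc (by
      have h3 : z ∈ g.fromNormalization ⁻¹ᵁ X.basicOpen c := by
        rw [Scheme.preimage_basicOpen, Scheme.mem_basicOpen _ _ z hzO]
        exact hu
      exact h3))
    exact two_le_depth_of_two h2 (hmem a hda) (hmem b hdb)

end Groth.Agent.PureFin
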